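import Groth.Agent.SpUnivThickLib.Quot
import Groth.Agent.AlgSpLib.FormalRows
import Groth.Agent.S9731

/-!
# Thickened atlases of a formally unramified morphism
-/

set_option autoImplicit false
set_option backward.isDefEq.respectTransparency false
set_option backward.isDefEq.respectTransparency.types false
universe u
open CategoryTheory CategoryTheory.Limits AlgebraicGeometry AlgSp AlgSpLib

namespace SpUnivThickLib

variable {S : Scheme.{u}}

/-- A thickened etale chart. -/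
theorem exists_side {X : Sp S} (hX : IsAlgSpace X) {W W' R : Over S} {hW : (yon S).obj W ⟶ X} {i : W ⟶ W'}
    {gX : (yon S).obj W' ⟶ X} (hu : IsUnivFOThick hW ((yon S).map i) gX) (p : R ⟶ W) (hp : Etale p.left) :
    ∃ (R' : Over S) (k : R ⟶ R') (p' : R' ⟶ W'), Etale p'.left ∧
      IsPullback ((yon S).map p) ((yon S).map k) ((yon S).map i) ((yon S).map p') ∧
      IsUnivFOThick ((yon S).map p ≫ hW) ((yon S).map k) ((yon S).map p' ≫ gX) := by
  have hpe : RepWith @Etale ((yon S).map p) := (repWith_yon_map_iff (P := (@Etale : MorphismProperty Scheme.{u})) p).2 hp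
  obtain ⟨R', aR, k, haR, sq⟩ := EtThickLib.exists_lift (IsAlgSpace.yon_obj W') hu.1.1 _ hpe
  obtain ⟨p', rfl⟩ := (yon S).map_surjective aR
  exact ⟨R', k, p', (repWith_yon_map_iff (P := (@Etale : MorphismProperty Scheme.{u})) p').1 haR, sq,
    isUnivFOThick_etale_baseChange (IsAlgSpace.yon_obj W') (IsAlgSpace.yon_obj R') hu (isEtaleMor_of_repWith haR) sq⟩

/-- Descent of a thickened atlas. -/
theorem exists_of_atlas {Z X : Sp S} (hZ : IsAlgSpace Z) (hX : IsAlgSpace X) {W W' : Over S} (a : (yon S).obj W ⟶ Z)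
    (ha : RepWith @Etale a) (has : RepWith @Surjective a) {hW : (yon S).obj W ⟶ X} (h : Z ⟶ X) (hh : a ≫ h = hW) {i : W ⟶ W'}
    {gX : (yon S).obj W' ⟶ X} (hu : IsUnivFOThick hW ((yon S).map i) gX) :
    ∃ (F : Sp S) (iF : Z ⟶ F) (g : F ⟶ X), IsAlgSpace F ∧ IsUnivFOThick h iF g := by
  obtain ⟨R, t₀, s₀, sqR⟩ := exists_isPullback_yon a a ha.rep
  have hs₀ : Etale s₀.left := (repWith_yon_map_iff (P := (@Etale : MorphismProperty Scheme.{u})) s₀).1
    (repWith_of_isPullback sqR ha)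
  have ht₀ : Etale t₀.left := (repWith_yon_map_iff (P := (@Etale : MorphismProperty Scheme.{u})) t₀).1
    (repWith_of_isPullback sqR.flip ha)
  have hst : (yon S).map t₀ ≫ hW = (yon S).map s₀ ≫ hW := by
    rw [← hh, ← Category.assoc, sqR.w, Category.assoc]
  obtain ⟨R', k, s, hs, sqs, us⟩ := exists_side hX hu s₀ hs₀
  obtain ⟨R₁, k₁, t₁, ht₁, sqt₁, ut⟩ := exists_side hX hu t₀ ht₀
  obtain ⟨φ, ⟨hφ₁, hφ₂⟩, -⟩ := ut.2.2 (IsAlgSpace.yon_obj R) (IsAlgSpace.yon_obj R') _ (𝟙 _)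
    ((yon S).map s ≫ gX) us.1 (by rw [us.2.1, Category.id_comp, hst])
  obtain ⟨ψ, ⟨hψ₁, hψ₂⟩, -⟩ := us.2.2 (IsAlgSpace.yon_obj R) (IsAlgSpace.yon_obj R₁) _ (𝟙 _)
    ((yon S).map t₁ ≫ gX) ut.1 (by rw [ut.2.1, Category.id_comp, hst])
  rw [Category.id_comp] at hφ₁ hψ₁
  have h1 : φ ≫ ψ = 𝟙 _ := (us.2.2 (IsAlgSpace.yon_obj R) (IsAlgSpace.yon_obj R') _ (𝟙 _) ((yon S).map s ≫ gX)
    us.1 (by rw [us.2.1, Category.id_comp])).unique
      ⟨by rw [← Category.assoc, hφ₁, hψ₁, Category.id_comp], by rw [Category.assoc, hψ₂, hφ₂]⟩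
      ⟨by rw [Category.comp_id, Category.id_comp], Category.id_comp _⟩
  have h2 : ψ ≫ φ = 𝟙 _ := (ut.2.2 (IsAlgSpace.yon_obj R) (IsAlgSpace.yon_obj R₁) _ (𝟙 _) ((yon S).map t₁ ≫ gX)
    ut.1 (by rw [ut.2.1, Category.id_comp])).unique
      ⟨by rw [← Category.assoc, hψ₁, hφ₁, Category.id_comp], by rw [Category.assoc, hφ₂, hψ₂]⟩
      ⟨by rw [Category.comp_id, Category.id_comp], Category.id_comp _⟩
  obtain ⟨t, htdef⟩ := (yon S).map_surjective (φ ≫ (yon S).map t₁)
  have hphi : RepWith @Etale φ := by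
    haveI : IsIso φ := ⟨ψ, h1, h2⟩
    exact repWith_of_isIso φ
  have ht : Etale t.left := (repWith_yon_map_iff (P := (@Etale : MorphismProperty Scheme.{u})) t).1 (htdef ▸
    repWith_comp hphi ((repWith_yon_map_iff (P := (@Etale : MorphismProperty Scheme.{u})) t₁).2 ht₁))
  have sqt : IsPullback ((yon S).map t₀) ((yon S).map k) ((yon S).map i) ((yon S).map t) :=
    sqt₁.of_iso (Iso.refl _) (Iso.refl _) ⟨ψ, φ, h2, h1⟩ (Iso.refl _) (by simp)
      (by simp [hψ₁]) (by simp) (by simp [htdef, reassoc_of% h2])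
  let D : Data S :=
  { Z := Z, X := X, hX := hX, W := W, W' := W', R := R, R' := R', a := a, s₀ := s₀, t₀ := t₀,
    sqR := sqR, hW := hW, hX_comp := hst, i := i, gX := gX, univW := hu, k := k, s := s, t := t,
    ets := hs, ett := ht, sqs := sqs, sqt := sqt, univR := us,
    hgX := by rw [htdef, Category.assoc, hφ₂] }
  exact Data.exists_univ D hZ ha has h hh

/-- A formally unramified morphism of algebraic spaces has a universal first order thickening. -/
theorem exists_univThick {Z X : Sp S} (hZ : IsAlgSpace Z) (hX : IsAlgSpace X) (h : Z ⟶ X)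
    (hh : IsFormallyUnramifiedMor h) :
    ∃ (F : Sp S) (iF : Z ⟶ F) (g : F ⟶ X), IsAlgSpace F ∧ IsUnivFOThick h iF g := by
  obtain ⟨V, b, hb, hbs⟩ := hX.atlas
  have sqP := IsPullback.of_hasPullback h b
  have hP : IsAlgSpace (pullback h b) := isAlgSpace_pullback hZ (IsAlgSpace.yon_obj V) hX h b
  obtain ⟨W, a₁, ha₁, ha₁s⟩ := hP.atlas
  let a := a₁ ≫ pullback.fst h b
  have ha : RepWith @Etale a := repWith_comp ha₁ (repWith_of_isPullback sqP.flip hb)
  have has : RepWith @Surjective a := repWith_comp ha₁s (repWith_of_isPullback sqP.flip hbs)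
  obtain ⟨ψ, hψ⟩ := (yon S).map_surjective (a₁ ≫ pullback.snd h b)
  have hc : a ≫ h = (yon S).map ψ ≫ b := by rw [hψ, Category.assoc, Category.assoc, pullback.condition]
  haveI : FormallyUnramified ψ.left :=
    (AlgSpLib.isFormallyUnramifiedMor_iff_locP hZ hX h).1 hh a b ψ ha hb hc
  obtain ⟨Wt, i₀, g₀, hu₀⟩ := Groth.Agent.S9731.result ψ.left
  let W' : Over S := Over.mk (g₀ ≫ V.hom)
  let i : W ⟶ W' := Over.homMk i₀ (by show i₀ ≫ g₀ ≫ V.hom = W.hom; rw [reassoc_of% hu₀.2.1, Over.w ψ])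
  let g : W' ⟶ V := Over.homMk g₀ rfl
  have hu : IsUnivFOThick (a ≫ h) ((yon S).map i) ((yon S).map g ≫ b) := by
    rw [hc]
    exact isUnivFOThick_comp (isUnivFOThick_yon ψ i g (Over.OverMorphism.ext hu₀.2.1) hu₀)
      (isFormallyEtaleMor_of_isEtaleMor (IsAlgSpace.yon_obj V) hX (isEtaleMor_of_repWith hb))
  exact exists_of_atlas hZ hX a ha has h rfl hu

end SpUnivThickLib
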