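import Groth.Agent.AlgSpLib.UnivThickBC
import Groth.Agent.UnivThickLib.Ops

/-!
# First order thickenings of schemes as first order thickenings of sheaves
-/

set_option autoImplicit false
set_option backward.isDefEq.respectTransparency false
set_option backward.isDefEq.respectTransparency.types false
universe u
open CategoryTheory CategoryTheory.Limits AlgebraicGeometry AlgSp

namespace SpUnivThickLib

variable {S : Scheme.{u}}

/-- A first order thickening of schemes gives one of sheaves. -/
theorem isFOThickMor_yon {W W' : Over S} (i : W ⟶ W') (hi : MoreMor.IsFirstOrderThickening i.left) :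
    IsFOThickMor ((yon S).map i) := by
  refine ⟨(isThickMor_yon_map_iff i).2 hi.1, fun V P b fst snd hV hb sq => ?_⟩
  obtain ⟨b', rfl⟩ := (yon S).map_surjective b
  obtain ⟨f', rfl⟩ := (yon S).map_surjective fst
  have sq' : IsPullback f'.left snd.left i.left b'.left :=
    (IsPullback.of_map (yon S) ((yon S).map_injective (by simpa using sq.w)) sq).map (Over.forget S)
  exact (UnivThickLib.fo_of_isPullback sq'.flip hi).2

/-- A universal first order thickening of schemes over a scheme is universal among algebraic spaces. -/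
theorem isUnivFOThick_yon {W W' V : Over S} (ψ : W ⟶ V) (i : W ⟶ W') (g : W' ⟶ V) (hw : i ≫ g = ψ)
    (hu : OmegaSh.IsUnivThickening ψ.left i.left g.left) :
    IsUnivFOThick ((yon S).map ψ) ((yon S).map i) ((yon S).map g) := by
  refine (AlgSpLib.isUnivFOThick_iff_affine_test (isFOThickMor_yon i hu.1)
    (by rw [← Functor.map_comp, hw])).2 fun T T' j hT' hj a b e => ?_
  obtain ⟨a, rfl⟩ := (yon S).map_surjective a
  obtain ⟨b, rfl⟩ := (yon S).map_surjective b
  have e' : j ≫ b = a ≫ ψ := (yon S).map_injective (by rw [Functor.map_comp, Functor.map_comp, e])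
  obtain ⟨l, ⟨hl₁, hl₂⟩, hlu⟩ := hu.2.2 _ _ j.left b.left a.left
    (isFirstOrderThickening_of_isFOThickMor_yon_map hT' hj) (by rw [← Over.comp_left, e', Over.comp_left])
  let lO : T' ⟶ W' := Over.homMk l (by rw [← Over.w g, ← Category.assoc, hl₂, Over.w b])
  refine ⟨(yon S).map lO, ⟨?_, ?_⟩, fun y hy => ?_⟩
  · rw [← Functor.map_comp, ← Functor.map_comp]
    exact congrArg _ (Over.OverMorphism.ext hl₁)
  · rw [← Functor.map_comp]
    exact congrArg _ (Over.OverMorphism.ext hl₂)
  · obtain ⟨y, rfl⟩ := (yon S).map_surjective y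
    refine congrArg _ (Over.OverMorphism.ext (hlu y.left ⟨?_, ?_⟩))
    · exact congrArg Over.Hom.left ((yon S).map_injective (by rw [Functor.map_comp, Functor.map_comp, hy.1]) : j ≫ y = a ≫ i)
    · exact congrArg Over.Hom.left ((yon S).map_injective (by rw [Functor.map_comp, hy.2]) : y ≫ g = b)

end SpUnivThickLib
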