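import Groth.Agent.SpUnivThickLib.Relation
import Groth.Agent.SpUnivThickLib.FOYon
import Groth.Agent.AlgSpLib.ThickLocal
import Mathlib.CategoryTheory.Sites.RegularEpi

/-!
# Descent of a universal thickening of an atlas
-/

set_option autoImplicit false
set_option backward.isDefEq.respectTransparency false
set_option backward.isDefEq.respectTransparency.types false
universe u
open CategoryTheory CategoryTheory.Limits AlgebraicGeometry AlgSp AlgSpLib

namespace SpUnivThickLib

variable {S : Scheme.{u}}

/-- Epimorphisms of sheaves lift against monomorphisms. -/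
theorem exists_lift_mono {A B V T : Sp S} (m : A ⟶ B) [Mono m] (q : V ⟶ T) [Sheaf.IsLocallySurjective q]
    (x : V ⟶ A) (u : T ⟶ B) (h : x ≫ m = q ≫ u) : ∃ w : T ⟶ A, w ≫ m = u := by
  haveI : Epi q := (Sheaf.isLocallySurjective_iff_epi _).mp inferInstance
  haveI : IsRegularEpiCategory (Sp S) := inferInstanceAs (IsRegularEpiCategory (Sheaf _ _))
  haveI : IsRegularEpi q := IsRegularEpiCategory.regularEpiOfEpi _
  haveI : StrongEpi q := inferInstance
  have sq : CommSq x q m u := ⟨h⟩
  exact ⟨sq.lift, sq.fac_right⟩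

namespace Data

variable (D : Data S)

/-- The closed subspace of the quotient pulls back to the atlas. -/
theorem isPullback_iF [Sheaf.IsLocallySurjective D.a] {F : Sp S} {π : (yon S).obj D.W' ⟶ F}
    (sq : IsPullback ((yon S).map D.t) ((yon S).map D.s) π π) {iF : D.Z ⟶ F}
    (hi : D.a ≫ iF = (yon S).map D.i ≫ π) : IsPullback D.a ((yon S).map D.i) iF π := by
  haveI := EtThickLib.mono_of_thick D.univW.1.1
  refine isPullback_of_forall_existsUnique hi fun T y v hyv => ?_
  obtain ⟨T', q, l, hq₁, hq₂, hq₃, hl⟩ := exists_single_lift D.a y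
  haveI : Sheaf.IsLocallySurjective ((yon S).map q) := isLocallySurjective_yon_map q
  haveI : Epi ((yon S).map q) := (Sheaf.isLocallySurjective_iff_epi _).mp inferInstance
  have hxv : ((yon S).map q ≫ v) ≫ π = (l ≫ (yon S).map D.i) ≫ π := by
    rw [Category.assoc, ← hyv, ← reassoc_of% hl, hi, Category.assoc]
  let r := sq.lift _ _ hxv
  let r₀ := D.sqs.lift l r (sq.lift_snd _ _ _).symm
  have hx' : (r₀ ≫ (yon S).map D.t₀) ≫ (yon S).map D.i = (yon S).map q ≫ v := by
    rw [Category.assoc, D.sqt.w, D.sqs.lift_snd_assoc]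
    exact sq.lift_fst _ _ _
  obtain ⟨w, hw⟩ := exists_lift_mono ((yon S).map D.i) ((yon S).map q) _ v hx'
  refine ⟨w, ⟨?_, hw⟩, fun w' hw' => ?_⟩
  · rw [← cancel_epi ((yon S).map q), ← hl, ← Category.assoc,
      show (yon S).map q ≫ w = r₀ ≫ (yon S).map D.t₀ by
        rw [← cancel_mono ((yon S).map D.i), Category.assoc, hw, hx'],
      Category.assoc, D.sqR.w, D.sqs.lift_fst_assoc]
  · rw [← cancel_mono ((yon S).map D.i), hw'.2, hw]

/-- The descended universal thickening. -/
theorem exists_univ (hZ : IsAlgSpace D.Z) (ha : RepWith @Etale D.a) (has : RepWith @Surjective D.a)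
    (h : D.Z ⟶ D.X) (hh : D.a ≫ h = D.hW) :
    ∃ (F : Sp S) (iF : D.Z ⟶ F) (g : F ⟶ D.X), IsAlgSpace F ∧ IsUnivFOThick h iF g := by
  have hrel := D.isEtaleEqvRel
  have hp := isPresentation_qπ D.s D.t hrel
  have hF := isAlgSpace_quot D.s D.t hrel
  let π := qπ D.s D.t
  haveI : Sheaf.IsLocallySurjective D.a := isLocallySurjective_of_repWith
    (repWith_mono (fun _ _ g (_ : Etale g) => (inferInstance : Flat g)) ha)
    (repWith_mono (fun _ _ g (_ : Etale g) => (inferInstance : LocallyOfFinitePresentation g)) ha) has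
  obtain ⟨iF, hiF⟩ := exists_desc_of_atlas ha has ((yon S).map D.i ≫ π) fun Z g g' e => by
    let ρ := D.sqR.lift ((yon S).map g) ((yon S).map g') e
    rw [← show ρ ≫ (yon S).map D.t₀ = (yon S).map g from D.sqR.lift_fst _ _ _,
      ← show ρ ≫ (yon S).map D.s₀ = (yon S).map g' from D.sqR.lift_snd _ _ _]
    rw [Category.assoc, Category.assoc, reassoc_of% D.sqt.w, reassoc_of% D.sqs.w, hp.isPullback.w]
  obtain ⟨g, hg⟩ := exists_desc_of_atlas hp.etale hp.surjective D.gX fun Z z z' e => by
    let ρ := hp.isPullback.lift ((yon S).map z) ((yon S).map z') e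
    rw [← show ρ ≫ (yon S).map D.t = (yon S).map z from hp.isPullback.lift_fst _ _ _,
      ← show ρ ≫ (yon S).map D.s = (yon S).map z' from hp.isPullback.lift_snd _ _ _,
      Category.assoc, Category.assoc, D.hgX]
  have sqi := D.isPullback_iF hp.isPullback hiF
  haveI : Epi D.a := (Sheaf.isLocallySurjective_iff_epi _).mp inferInstance
  have hw : iF ≫ g = h := by
    rw [← cancel_epi D.a, reassoc_of% hiF, hg, D.univW.2.1, hh]
  haveI : Sheaf.IsLocallySurjective π := inferInstanceAs (Sheaf.IsLocallySurjective (qπ D.s D.t))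
  haveI := descendsAlong_surjective.{u}
  have hth := (repWith_yon_map_iff (P := thick) D.i).1 D.univW.1.1
  have hrep : Representable iF := representable_of_cover
    ((isEffClass_isAffineHom (S := S)).mono (fun _ _ g (hg : thick g) =>
      haveI : IsClosedImmersion g := hg.1; (inferInstance : IsAffineHom g))) sqi D.univW.1.1
  have hc : RepWith @IsClosedImmersion iF := repWith_of_cover sqi hrep ((repWith_yon_map_iff _ _).2 hth.1)
  have hs : RepWith @Surjective iF := repWith_of_cover sqi hrep ((repWith_yon_map_iff _ _).2 hth.2)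
  haveI : (thick : MorphismProperty Scheme.{u}).RespectsIso := MorphismProperty.IsStableUnderBaseChange.respectsIso
  have hthick : IsThickMor iF :=
    MorphismProperty.relative_of_snd hrep fun T ξ => ⟨hc.property_snd ξ, hs.property_snd ξ⟩
  have hFO : IsFOThickMor iF := isFOThickMor_of_data hthick fun {A} _ {str} m => by
    refine exists_data_of_charts hthick (fun x => ?_) m
    obtain ⟨y, hy⟩ := map_surjective_of_repWith hp.surjective x
    obtain ⟨C, strC, e, zc, he, hzc⟩ := exists_affine_etale_nhd (IsAlgSpace.yon_obj D.W') y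
    obtain ⟨I, hI, r, sqI⟩ := exists_chart_data D.univW.1 e he
    exact ⟨C, strC, e ≫ π, zc, repWith_comp he hp.etale, by rw [← Points.map_ofPt, hzc, hy],
      I, hI, r ≫ D.a, sqI.paste_horiz sqi⟩
  refine ⟨_, iF, g, hF, isUnivFOThick_descend (IsAlgSpace.yon_obj D.W) hZ (IsAlgSpace.yon_obj D.W') hF
    (isEtaleMor_of_repWith ha) (map_surjective_of_repWith has) hFO (isEtaleMor_of_repWith hp.etale) hiF.symm hw ?_⟩
  rw [hh, hg]
  exact D.univW

end Data

end SpUnivThickLib
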