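import Groth.Agent.AlgSpLib.UnivThickBC
import Groth.Agent.EtThickLib.Main

/-!
# The equivalence relation on a universal thickening of an atlas
-/

set_option autoImplicit false
set_option backward.isDefEq.respectTransparency false
set_option backward.isDefEq.respectTransparency.types false
universe u
open CategoryTheory CategoryTheory.Limits AlgebraicGeometry AlgSp AlgSpLib

namespace SpUnivThickLib

variable {S : Scheme.{u}}

/-- Thickened data of an atlas with its relation. -/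
structure Data (S : Scheme.{u}) where
  Z : Sp S
  X : Sp S
  hX : IsAlgSpace X
  {W W' R R' : Over S}
  a : (yon S).obj W ⟶ Z
  s₀ : R ⟶ W
  t₀ : R ⟶ W
  sqR : IsPullback ((yon S).map t₀) ((yon S).map s₀) a a
  hW : (yon S).obj W ⟶ X
  hX_comp : (yon S).map t₀ ≫ hW = (yon S).map s₀ ≫ hW
  i : W ⟶ W'
  gX : (yon S).obj W' ⟶ X
  univW : IsUnivFOThick hW ((yon S).map i) gX
  k : R ⟶ R'
  s : R' ⟶ W'
  t : R' ⟶ W'
  ets : Etale s.left
  ett : Etale t.left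
  sqs : IsPullback ((yon S).map s₀) ((yon S).map k) ((yon S).map i) ((yon S).map s)
  sqt : IsPullback ((yon S).map t₀) ((yon S).map k) ((yon S).map i) ((yon S).map t)
  univR : IsUnivFOThick ((yon S).map s₀ ≫ hW) ((yon S).map k) ((yon S).map s ≫ gX)
  hgX : (yon S).map t ≫ gX = (yon S).map s ≫ gX

namespace Data

variable (D : Data S)

theorem uniqW {T T' : Sp S} (hT : IsAlgSpace T) (hT' : IsAlgSpace T') {j : T ⟶ T'} (hj : IsFOThickMor j)
    (a : T ⟶ (yon S).obj D.W) {u v : T' ⟶ (yon S).obj D.W'} (hu : j ≫ u = a ≫ (yon S).map D.i)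
    (hv : j ≫ v = a ≫ (yon S).map D.i) (h : u ≫ D.gX = v ≫ D.gX) : u = v := by
  refine (D.univW.2.2 hT hT' j a (v ≫ D.gX) hj ?_).unique ⟨hu, h⟩ ⟨hv, rfl⟩
  rw [← Category.assoc, hv, Category.assoc, D.univW.2.1]

/-- Lifts of maps of relations. -/
theorem exists_liftR {T T' : Sp S} (hT : IsAlgSpace T) (hT' : IsAlgSpace T') {j : T ⟶ T'} (hj : IsFOThickMor j)
    (c : T ⟶ (yon S).obj D.R) (u v : T' ⟶ (yon S).obj D.W') (hg : u ≫ D.gX = v ≫ D.gX)
    (hu : j ≫ u = c ≫ (yon S).map D.s₀ ≫ (yon S).map D.i)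
    (hv : j ≫ v = c ≫ (yon S).map D.t₀ ≫ (yon S).map D.i) :
    ∃ r : T' ⟶ (yon S).obj D.R', r ≫ (yon S).map D.s = u ∧ r ≫ (yon S).map D.t = v := by
  obtain ⟨r, ⟨hr₁, hr₂⟩, -⟩ := D.univR.2.2 hT hT' j c (u ≫ D.gX) hj (by
    rw [← Category.assoc, hu, Category.assoc, Category.assoc, D.univW.2.1])
  refine ⟨r, D.uniqW hT hT' hj (c ≫ (yon S).map D.s₀) ?_ (by rw [hu, Category.assoc]) ?_,
    D.uniqW hT hT' hj (c ≫ (yon S).map D.t₀) ?_ (by rw [hv, Category.assoc]) ?_⟩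
  · rw [← Category.assoc, hr₁, Category.assoc, Category.assoc, D.sqs.w]
  · rw [Category.assoc, hr₂]
  · rw [← Category.assoc, hr₁, Category.assoc, Category.assoc, D.sqt.w]
  · rw [Category.assoc, D.hgX, hr₂, hg]

theorem exists_inv : ∃ σ : D.R' ⟶ D.R', σ ≫ D.s = D.t ∧ σ ≫ D.t = D.s := by
  obtain ⟨σ₀, hσ₁, hσ₂⟩ : ∃ σ₀ : (yon S).obj D.R ⟶ (yon S).obj D.R,
      σ₀ ≫ (yon S).map D.t₀ = (yon S).map D.s₀ ∧ σ₀ ≫ (yon S).map D.s₀ = (yon S).map D.t₀ :=
    ⟨D.sqR.lift _ _ D.sqR.w.symm, D.sqR.lift_fst _ _ _, D.sqR.lift_snd _ _ _⟩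
  obtain ⟨r, h₁, h₂⟩ := D.exists_liftR (IsAlgSpace.yon_obj _) (IsAlgSpace.yon_obj _) D.univR.1 σ₀
    ((yon S).map D.t) ((yon S).map D.s) D.hgX (by rw [reassoc_of% hσ₂, D.sqt.w]) (by rw [reassoc_of% hσ₁, D.sqs.w])
  obtain ⟨σ, rfl⟩ := (yon S).map_surjective r
  exact ⟨σ, (yon S).map_injective (by rw [Functor.map_comp, h₁]), (yon S).map_injective (by rw [Functor.map_comp, h₂])⟩

theorem exists_id : ∃ e : D.W' ⟶ D.R', e ≫ D.s = 𝟙 _ ∧ e ≫ D.t = 𝟙 _ := by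
  obtain ⟨δ, hδ₁, hδ₂⟩ : ∃ δ : (yon S).obj D.W ⟶ (yon S).obj D.R,
      δ ≫ (yon S).map D.t₀ = 𝟙 _ ∧ δ ≫ (yon S).map D.s₀ = 𝟙 _ :=
    ⟨D.sqR.lift _ _ rfl, D.sqR.lift_fst _ _ _, D.sqR.lift_snd _ _ _⟩
  obtain ⟨r, h₁, h₂⟩ := D.exists_liftR (IsAlgSpace.yon_obj _) (IsAlgSpace.yon_obj _) D.univW.1 δ (𝟙 _) (𝟙 _) rfl
    (by rw [reassoc_of% hδ₂, Category.comp_id]) (by rw [reassoc_of% hδ₁, Category.comp_id])
  obtain ⟨e, rfl⟩ := (yon S).map_surjective r
  exact ⟨e, (yon S).map_injective (by rw [Functor.map_comp, h₁, CategoryTheory.Functor.map_id]),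
    (yon S).map_injective (by rw [Functor.map_comp, h₂, CategoryTheory.Functor.map_id])⟩

theorem exists_comp {T : Over S} (α β : T ⟶ D.R') (h : α ≫ D.s = β ≫ D.t) :
    ∃ γ : T ⟶ D.R', γ ≫ D.t = α ≫ D.t ∧ γ ≫ D.s = β ≫ D.s := by
  let P : Over S := Over.mk (pullback.fst D.s.left D.t.left ≫ D.R'.hom)
  let π₁ : P ⟶ D.R' := Over.homMk (pullback.fst D.s.left D.t.left) rfl
  let π₂ : P ⟶ D.R' := Over.homMk (pullback.snd D.s.left D.t.left) (by
    show pullback.snd D.s.left D.t.left ≫ D.R'.hom = pullback.fst D.s.left D.t.left ≫ D.R'.hom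
    have h1 : D.t.left ≫ D.W'.hom = D.R'.hom := Over.w D.t
    have h2 : D.s.left ≫ D.W'.hom = D.R'.hom := Over.w D.s
    conv_lhs => rw [← h1]
    rw [← pullback.condition_assoc, h2])
  have hπ : π₁ ≫ D.s = π₂ ≫ D.t := Over.OverMorphism.ext pullback.condition
  let d : T ⟶ P := Over.homMk (pullback.lift α.left β.left (congrArg Over.Hom.left h)) (by
    show pullback.lift _ _ _ ≫ pullback.fst _ _ ≫ D.R'.hom = T.hom
    rw [pullback.lift_fst_assoc, Over.w α])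
  have hd₁ : d ≫ π₁ = α := Over.OverMorphism.ext (pullback.lift_fst _ _ _)
  have hd₂ : d ≫ π₂ = β := Over.OverMorphism.ext (pullback.lift_snd _ _ _)
  obtain ⟨C, c₁, kC, sqC⟩ : ∃ (C : Over S) (c₁ : (yon S).obj C ⟶ (yon S).obj D.R) (kC : C ⟶ P),
      IsPullback c₁ ((yon S).map kC) ((yon S).map D.k) ((yon S).map π₁) :=
    ⟨_, _, _, D.univR.1.1.rep.isPullback ((yon S).map π₁)⟩
  have hkC : IsFOThickMor ((yon S).map kC) := isFOThickMor_of_isPullback sqC (IsAlgSpace.yon_obj _) D.univR.1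
  have h2 : (c₁ ≫ (yon S).map D.s₀) ≫ (yon S).map D.i = ((yon S).map kC ≫ (yon S).map π₂) ≫ (yon S).map D.t := by
    rw [Category.assoc, D.sqs.w, ← Category.assoc, sqC.w, Category.assoc, Category.assoc, ← Functor.map_comp,
      hπ, Functor.map_comp]
  let c₂ := D.sqt.lift _ _ h2
  have hc2 : c₂ ≫ (yon S).map D.t₀ = c₁ ≫ (yon S).map D.s₀ := D.sqt.lift_fst _ _ _
  have hc2' : c₂ ≫ (yon S).map D.k = (yon S).map kC ≫ (yon S).map π₂ := D.sqt.lift_snd _ _ _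
  let c := D.sqR.lift (c₁ ≫ (yon S).map D.t₀) (c₂ ≫ (yon S).map D.s₀) (by
    rw [Category.assoc, Category.assoc, D.sqR.w, ← Category.assoc, ← hc2, Category.assoc, D.sqR.w])
  have hgg : ((yon S).map π₂ ≫ (yon S).map D.s) ≫ D.gX = ((yon S).map π₁ ≫ (yon S).map D.t) ≫ D.gX := by
    simp only [Category.assoc, D.hgX]
    calc (yon S).map π₂ ≫ (yon S).map D.s ≫ D.gX = (yon S).map π₂ ≫ (yon S).map D.t ≫ D.gX := by rw [D.hgX]
      _ = (yon S).map π₁ ≫ (yon S).map D.s ≫ D.gX := by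
        rw [← Functor.map_comp_assoc, ← hπ, Functor.map_comp_assoc]
  obtain ⟨r, hr₁, hr₂⟩ := D.exists_liftR (IsAlgSpace.yon_obj _) (IsAlgSpace.yon_obj _) hkC c
    ((yon S).map π₂ ≫ (yon S).map D.s) ((yon S).map π₁ ≫ (yon S).map D.t) hgg
    (by rw [← Category.assoc, ← hc2', Category.assoc, ← D.sqs.w, reassoc_of% (D.sqR.lift_snd _ _ _), Category.assoc])
    (by rw [← Category.assoc, ← sqC.w, Category.assoc, ← D.sqt.w, reassoc_of% (D.sqR.lift_fst _ _ _), Category.assoc])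
  obtain ⟨r, rfl⟩ := (yon S).map_surjective r
  have e₁ : r ≫ D.s = π₂ ≫ D.s := (yon S).map_injective (by rw [Functor.map_comp, hr₁, Functor.map_comp])
  have e₂ : r ≫ D.t = π₁ ≫ D.t := (yon S).map_injective (by rw [Functor.map_comp, hr₂, Functor.map_comp])
  exact ⟨d ≫ r, by rw [Category.assoc, e₂, reassoc_of% hd₁], by rw [Category.assoc, e₁, reassoc_of% hd₂]⟩

theorem injective {T : Over S} (r r' : T ⟶ D.R') (h₁ : r ≫ D.t = r' ≫ D.t) (h₂ : r ≫ D.s = r' ≫ D.s) : r = r' := by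
  obtain ⟨T₀, e, ι, sqT⟩ : ∃ (T₀ : Over S) (e : (yon S).obj T₀ ⟶ (yon S).obj D.W) (ι : T₀ ⟶ T),
      IsPullback e ((yon S).map ι) ((yon S).map D.i) ((yon S).map (r ≫ D.s)) :=
    ⟨_, _, _, D.univW.1.1.rep.isPullback ((yon S).map (r ≫ D.s))⟩
  have hι : IsThickMor ((yon S).map ι) := repWith_of_isPullback sqT D.univW.1.1
  have hs : RepWith @Etale ((yon S).map D.s) :=
    (repWith_yon_map_iff (P := (@Etale : MorphismProperty Scheme.{u})) D.s).2 D.ets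
  refine EtThickLib.eq_of_restrict (IsAlgSpace.yon_obj D.W') hι hs (by rw [← Functor.map_comp, ← Functor.map_comp, h₂]) ?_
  have hw : e ≫ (yon S).map D.i = ((yon S).map ι ≫ (yon S).map r) ≫ (yon S).map D.s := by
    rw [sqT.w, Functor.map_comp, Category.assoc]
  have hw' : e ≫ (yon S).map D.i = ((yon S).map ι ≫ (yon S).map r') ≫ (yon S).map D.s := by
    rw [sqT.w, h₂, Functor.map_comp, Category.assoc]
  let r₀ := D.sqs.lift e _ hw
  let r₀' := D.sqs.lift e _ hw'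
  have hr₀ : r₀ = r₀' := by
    haveI := EtThickLib.mono_of_thick D.univW.1.1
    apply D.sqR.hom_ext
    · rw [← cancel_mono ((yon S).map D.i), Category.assoc, Category.assoc, D.sqt.w,
        D.sqs.lift_snd_assoc, D.sqs.lift_snd_assoc, Category.assoc, Category.assoc, ← Functor.map_comp,
        ← Functor.map_comp, h₁]
      simp only [Functor.map_comp]
    · exact (D.sqs.lift_fst _ _ _).trans (D.sqs.lift_fst _ _ _).symm
  apply (yon S).map_injective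
  rw [Functor.map_comp, Functor.map_comp, ← D.sqs.lift_snd e _ hw, ← D.sqs.lift_snd e _ hw']
  exact congrArg (· ≫ (yon S).map D.k) hr₀

theorem isEtaleEqvRel : IsEtaleEqvRel D.s D.t where
  injective _ r r' h₁ h₂ := D.injective r r' h₁ h₂
  equivalence T := by
    obtain ⟨e, he₁, he₂⟩ := D.exists_id
    obtain ⟨σ, hσ₁, hσ₂⟩ := D.exists_inv
    refine ⟨fun x => ⟨x ≫ e, by rw [Category.assoc, he₂, Category.comp_id],
      by rw [Category.assoc, he₁, Category.comp_id]⟩, fun {x y} h => ?_, fun {x y z} h h' => ?_⟩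
    · obtain ⟨r, h₁, h₂⟩ := h
      exact ⟨r ≫ σ, by rw [Category.assoc, hσ₂, h₂], by rw [Category.assoc, hσ₁, h₁]⟩
    · obtain ⟨α, ha, hb⟩ := h
      obtain ⟨β, hc, hd⟩ := h'
      obtain ⟨γ, h₁, h₂⟩ := D.exists_comp α β (hb.trans hc.symm)
      exact ⟨γ, h₁.trans ha, h₂.trans hd⟩
  etale_left := D.ets
  etale_right := D.ett

end Data

end SpUnivThickLib
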